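import Cfsg.Agent.FG72.MaxClass.Periodic
import Cfsg.Agent.SectRank81.Pearl
import Cfsg.Agent.BC84.CentralizerPSquare
import Cfsg.Agent.Lib.Transfer.Tate
import Cfsg.Agent.Lib.Thompson.Cores
import Cfsg.Prelude.Def_CaseTheorems

/-!
# Sylow `p`-subgroups of maximal class

If `x ∈ P` has centralizer of order `p ^ 2` in a Sylow subgroup `P` of maximal class, then either its
centralizer in the group has `p`-part `p ^ 2`, or `x` is conjugate into `P'`.
-/

set_option autoImplicit false
set_option linter.unusedSectionVars false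
set_option linter.style.haveILetI false

namespace Cfsg.Agent.MaxClassSylow64

universe u

open Subgroup SectRank81 FG72.MaxClass
open scoped commutatorElement Pointwise

variable {p : ℕ} [hp : Fact p.Prime]

theorem maxCl_of_class {X : Type u} [Group X] [Finite X] {n : ℕ} (hn : 3 ≤ n)
    (hX : Nat.card X = p ^ n) (hc : Group.nilpotencyClass X = n - 1) : MaxCl p n X := by
  haveI : Group.IsNilpotent X := (IsPGroup.of_card hX).isNilpotent
  set L := fun k => (⊤ : Subgroup X).lowerCentralSeries k
  have hbot : L (n - 1) = ⊥ := Subgroup.lowerCentralSeries_eq_bot_iff_nilpotencyClass_le.2 hc.le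
  have hone : Nat.card (FG38.filt X 2) = p ^ (n - 2) := by
    rw [filt_two]
    have h1 := (commutator X).card_mul_index
    rw [BC84.PSquare.commutator_index_of_class n (by omega) hX hc, hX,
      show n = n - 2 + 2 by omega, pow_add] at h1
    exact Nat.eq_of_mul_eq_mul_right (pow_pos hp.out.pos 2) h1
  have hlt : ∀ i, 1 ≤ i → i + 1 ≤ n →
      Nat.card (FG38.filt X (i + 1)) < Nat.card (FG38.filt X i) := by
    intro i hi hin
    refine lt_of_le_of_ne (Subgroup.card_le_of_le (FG38.filt_antitone (Nat.le_succ i))) fun he => ?_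
    have h1 := filt_eq_bot_of_le hi
      (Subgroup.eq_of_le_of_card_ge (FG38.filt_antitone (Nat.le_succ i)) he.ge).ge
    have h2 : Group.nilpotencyClass X ≤ i - 1 := Subgroup.lowerCentralSeries_eq_bot_iff_nilpotencyClass_le.1 h1
    omega
  choose e he using fun i => PGroup.exists_card_eq_pow (IsPGroup.of_card hX) (FG38.filt X i)
  have hen : e n = 0 := by
    have h1 := he n
    rw [show FG38.filt X n = ⊥ from hbot, card_bot] at h1
    by_contra h
    exact absurd h1 (Nat.one_lt_pow h hp.out.one_lt).ne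
  have he2 : e 2 = n - 2 := Nat.pow_right_injective hp.out.two_le ((he 2).symm.trans hone)
  have hdec : ∀ i, 1 ≤ i → i + 1 ≤ n → e (i + 1) < e i := fun i hi hin => by
    have h1 := hlt i hi hin
    rw [he, he] at h1
    exact (Nat.pow_lt_pow_iff_right hp.out.one_lt).1 h1
  have hup : ∀ i, 2 ≤ i → i ≤ n → e i + i ≤ n := by
    intro i hi
    induction i, hi using Nat.le_induction with
    | base => intro _; omega
    | succ i hi ih => intro hin; have := hdec i (by omega) hin; have := ih (by omega); omega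
  have hlow : ∀ d i, i + d = n → 2 ≤ i → d ≤ e i := by
    intro d
    induction d with
    | zero => intros; omega
    | succ d ih =>
      intro i hid hi
      have := hdec i (by omega) (by omega)
      have := ih (i + 1) (by omega) (by omega)
      omega
  refine ⟨hX, hn, fun i hi hin => ?_⟩
  rw [he]
  congr 1
  have := hup i hi hin
  have := hlow (n - i) i (by omega) hi
  omega

theorem exists_conj_of_card {G : Type*} [Group G] [Finite G] {A B : Subgroup G}
    (hA : Nat.card A = p ^ (Nat.card G).factorization p)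
    (hB : Nat.card B = p ^ (Nat.card G).factorization p) :
    ∃ g : G, (∀ a ∈ A, g * a * g⁻¹ ∈ B) ∧ ∀ b ∈ B, ∃ a ∈ A, g * a * g⁻¹ = b := by
  obtain ⟨g, hg⟩ := MulAction.exists_smul_eq G (Sylow.ofCard A hA) (Sylow.ofCard B hB)
  have h : MulAut.conj g • A = B := congrArg (fun S : Sylow p G => (S : Subgroup G)) hg
  subst h
  exact ⟨g, fun a ha => ⟨a, ha, rfl⟩, fun b ⟨a, ha, e⟩ => ⟨a, ha, e⟩⟩

/-- The centralizer of an element with centralizer of order `p ^ 2` in a Sylow subgroup of maximal
class has `p`-part `p ^ 2`, unless the element is conjugate into the derived subgroup. -/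
theorem key : ∀ (n : ℕ) {H Q : Type u} [Group H] [Finite H] [Group Q] [Finite Q] (ι : Q →* H),
    Function.Injective ι → (Nat.card H).factorization p = n → MaxCl p n Q → ∀ x : Q, Cfg p n x →
    (Nat.card (centralizer ({ι x} : Set H))).factorization p = 2 ∨
      ∃ h : H, ∃ d ∈ FG38.filt Q 2, h * ι x * h⁻¹ = ι d := by
  intro n
  induction n using Nat.strong_induction_on with
  | _ n ih =>
  intro H Q _ _ _ _ ι hι hv hQ x hx
  have hp2 := hp.out.two_le
  have h3 := hQ.three
  set C := centralizer ({ι x} : Set H) with hC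
  set U := (centralizer ({x} : Set Q)).map ι with hU
  have hUcard : Nat.card U = p ^ 2 := by rw [hU, card_map_of_injective hι, hx.cent]
  have hxU : ι x ∈ U := mem_map_of_mem ι (mem_centralizer_singleton_iff.2 rfl)
  have hUC : U ≤ C := by
    rintro _ ⟨q, hq, rfl⟩
    rw [hC, mem_centralizer_singleton_iff, ← map_mul, ← map_mul,
      mem_centralizer_singleton_iff.1 hq]
  have hv2 : 2 ≤ (Nat.card C).factorization p :=
    (hp.out.pow_dvd_iff_le_factorization Nat.card_pos.ne').1 (hUcard ▸ card_dvd_of_le hUC)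
  rcases eq_or_lt_of_le hv2 with heq | hv3
  · exact Or.inl heq.symm
  have hdvd : p ^ 3 ∣ Nat.card C := (hp.out.pow_dvd_iff_le_factorization Nat.card_pos.ne').2 hv3
  obtain ⟨T₀, hT₀⟩ := (IsPGroup.of_card hUcard).of_equiv
    (subgroupOfEquivOfLe hUC).symm |>.exists_le_sylow
  set T := (T₀ : Subgroup C).map C.subtype with hT
  have hUT : U ≤ T := fun u hu => ⟨⟨u, hUC hu⟩, hT₀ (mem_subgroupOf.2 hu), rfl⟩
  have hTC : T ≤ C := map_subtype_le _
  have hTcard : Nat.card T = p ^ (Nat.card C).factorization p := by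
    rw [hT, card_map_of_injective C.subtype_injective, T₀.card_eq_multiplicity]
  have hTp : IsPGroup p T := IsPGroup.of_card hTcard
  -- the centre of `Q`
  have hZcard : Nat.card (center Q) = p := hx.card_center
  have hZ2 : center Q ≤ FG38.filt Q 2 := hx.center_eq ▸ FG38.filt_antitone (by omega)
  obtain ⟨z, hzc, hz1⟩ : ∃ z ∈ center Q, z ≠ 1 := by
    by_contra! h
    have : center Q = ⊥ := (eq_bot_iff_forall _).2 h
    rw [this, card_bot] at hZcard
    omega
  have hzgen : center Q = zpowers z := by
    refine (eq_of_le_of_card_ge (zpowers_le.2 hzc) ?_).symm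
    rw [hZcard, Nat.card_zpowers]
    have h1 : orderOf z ∣ p := hZcard ▸ Subgroup.orderOf_dvd_natCard _ hzc
    rcases (Nat.dvd_prime hp.out).1 h1 with e | e
    · exact absurd (orderOf_eq_one_iff.1 e) hz1
    · exact e.ge
  have hzU : ι z ∈ U := mem_map_of_mem ι (hx.center_le_cent hzc)
  by_cases hn3 : n = 3
  · subst hn3
    have hvC : (Nat.card C).factorization p = (Nat.card H).factorization p := by
      have := (Nat.factorization_le_iff_dvd Nat.card_pos.ne' Nat.card_pos.ne').2
        (C.card_subgroup_dvd_card) p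
      omega
    obtain ⟨g, hg1, hg2⟩ := exists_conj_of_card (A := T) (B := ι.range) (by rw [hTcard, hvC])
      (by rw [Nat.card_congr (MonoidHom.ofInjective hι).toEquiv.symm, hQ.card, hv])
    obtain ⟨d, hd⟩ := hg1 _ (hUT hxU)
    refine Or.inr ⟨g, d, hZ2 (mem_center_iff.2 fun q => hι ?_), hd.symm⟩
    obtain ⟨a, ha, hae⟩ := hg2 (ι q) ⟨q, rfl⟩
    have hcom := mem_centralizer_singleton_iff.1 (hTC ha)
    rw [map_mul, map_mul, hd, ← hae]
    calc g * a * g⁻¹ * (g * ι x * g⁻¹) = g * (a * ι x) * g⁻¹ := by group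
      _ = g * (ι x * a) * g⁻¹ := by rw [hcom]
      _ = g * ι x * g⁻¹ * (g * a * g⁻¹) := by group
  have hUcomm : ∀ a ∈ U, ∀ b ∈ U, a * b = b * a := fun a ha b hb =>
    congrArg Subtype.val ((IsPGroup.isMulCommutative_of_card_eq_prime_sq hUcard).is_comm.comm ⟨a, ha⟩ ⟨b, hb⟩)
  set C₂ := centralizer (U : Set H) with hC₂
  by_cases hA : p ^ 3 ∣ Nat.card C₂
  · -- pass to the centralizer of `z` modulo `z`
    set H₁ := centralizer ({ι z} : Set H) with hH₁
    have hmem : ∀ q : Q, ι q ∈ H₁ := fun q => by
      rw [hH₁, mem_centralizer_singleton_iff, ← map_mul, ← map_mul, mem_center_iff.1 hzc q]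
    let ι₁ : Q →* H₁ := ι.codRestrict H₁ hmem
    have hι₁ : Function.Injective ι₁ := fun a b e => hι (congrArg Subtype.val e)
    let z₁ : H₁ := ι₁ z
    have hz₁ : z₁ ∈ center H₁ := mem_center_iff.2 fun g =>
      Subtype.ext (mem_centralizer_singleton_iff.1 g.2)
    set N := zpowers z₁ with hN
    haveI : N.Normal := ⟨fun a ha g => by
      rw [mem_center_iff.1 ((zpowers_le.2 hz₁ : N ≤ center H₁) ha) g, mul_inv_cancel_right]
      exact ha⟩
    set F := FG38.filt Q (n - 1) with hF
    have hFz : F = zpowers z := by rw [hF, ← hx.center_eq, hzgen]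
    have hFN : F ≤ N.comap ι₁ := hFz ▸ zpowers_le.2 (mem_zpowers z₁)
    let ι₂ : Q ⧸ F →* H₁ ⧸ N := QuotientGroup.map F N ι₁ hFN
    have hι₂ : Function.Injective ι₂ := by
      rw [injective_iff_map_eq_one]
      intro a ha
      obtain ⟨q, rfl⟩ := QuotientGroup.mk_surjective a
      obtain ⟨j, hj⟩ := (QuotientGroup.eq_one_iff _).1 ha
      rw [QuotientGroup.eq_one_iff, hFz]
      exact ⟨j, hι₁ ((map_zpow ι₁ z j).trans hj)⟩
    have hNcard : Nat.card N = p := by
      rw [hN, Nat.card_zpowers, orderOf_injective ι₁ hι₁, ← Nat.card_zpowers, ← hzgen, hZcard]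
    have hvH₁ : (Nat.card H₁).factorization p = n := by
      refine le_antisymm (hv ▸ (Nat.factorization_le_iff_dvd Nat.card_pos.ne' Nat.card_pos.ne').2
        H₁.card_subgroup_dvd_card p) ((hp.out.pow_dvd_iff_le_factorization Nat.card_pos.ne').1 ?_)
      rw [← hQ.card]
      exact card_dvd_of_injective ι₁ hι₁
    have hfac : ∀ D : Subgroup (H₁ ⧸ N),
        (Nat.card (D.comap (QuotientGroup.mk' N))).factorization p =
          (Nat.card D).factorization p + 1 := fun D => by
      rw [FG78.card_comap_mk', hNcard, Nat.factorization_mul hp.out.ne_zero Nat.card_pos.ne',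
        Finsupp.add_apply, hp.out.factorization_self, add_comm]
    have hvq : (Nat.card (H₁ ⧸ N)).factorization p = n - 1 := by
      have h1 := hfac ⊤
      rw [comap_top, card_top, card_top, hvH₁] at h1
      omega
    have hQ' : MaxCl p (n - 1) (Q ⧸ F) := hQ.quotient (by omega) (by omega)
    set xb := QuotientGroup.mk' F x with hxb
    have hx' : Cfg p (n - 1) xb := by
      refine ⟨hQ'.card, hQ'.three, le_antisymm (hx.quot_centralizer_le F) ?_⟩
      have hnc : xb ∉ center (Q ⧸ F) := by
        intro hc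
        have h1 := hx.quot_centralizer_le F
        have htop : centralizer ({xb} : Set (Q ⧸ F)) = ⊤ :=
          eq_top_iff.2 fun g _ => mem_centralizer_singleton_iff.2 (mem_center_iff.1 hc g)
        rw [← hxb, htop, card_top, hQ'.card] at h1
        have := (Nat.pow_le_pow_iff_right hp.out.one_lt).1 h1
        omega
      exact (sq_le_card_sup hQ'.card (by omega) hnc).trans (Subgroup.card_le_of_le
        (sup_le (zpowers_le.2 (mem_centralizer_singleton_iff.2 rfl)) (center_le_centralizer _)))
    rcases ih (n - 1) (by omega) ι₂ hι₂ hvq hQ' xb hx' with hl | ⟨hb, db, hdb, hhb⟩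
    swap
    · obtain ⟨d, hd, rfl⟩ := map_filt_ge 2 F hdb
      obtain ⟨g, rfl⟩ := QuotientGroup.mk_surjective hb
      have h1 : ((g * ι₁ x * g⁻¹ : H₁) : H₁ ⧸ N) = ((ι₁ d : H₁) : H₁ ⧸ N) := hhb
      obtain ⟨j, hj⟩ := (QuotientGroup.eq.1 h1.symm)
      refine Or.inr ⟨g, d * z ^ j, mul_mem hd (zpow_mem (hZ2 hzc) j), ?_⟩
      have h2 : ι₁ (d * z ^ j) = g * ι₁ x * g⁻¹ := by
        rw [map_mul, map_zpow, show ι₁ z ^ j = _ from hj, mul_inv_cancel_left]
      exact (congrArg Subtype.val h2).symm
    · exfalso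
      set D := (centralizer ({ι₂ xb} : Set (H₁ ⧸ N))).comap (QuotientGroup.mk' N) with hD
      have hvD : (Nat.card D).factorization p = 3 := by rw [hD, hfac, hl]
      set K := centralizer ({ι₁ x} : Set H₁) with hK
      have hKD : K ≤ D := fun k hk => mem_comap.2 <| mem_centralizer_singleton_iff.2 <| by
        show (k : H₁ ⧸ N) * ((ι₁ x : H₁) : H₁ ⧸ N) = ((ι₁ x : H₁) : H₁ ⧸ N) * (k : H₁ ⧸ N)
        rw [← QuotientGroup.mk_mul, mem_centralizer_singleton_iff.1 hk, QuotientGroup.mk_mul]
      have hC₂H₁ : C₂ ≤ H₁ := fun c hc => mem_centralizer_singleton_iff.2 (hc _ hzU).symm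
      have hC₂K : C₂.subgroupOf H₁ ≤ K := fun c hc =>
        mem_centralizer_singleton_iff.2 (Subtype.ext (mem_subgroupOf.1 hc _ hxU).symm)
      have hvK : (Nat.card K).factorization p = 3 := by
        refine le_antisymm (hvD ▸ (Nat.factorization_le_iff_dvd Nat.card_pos.ne' Nat.card_pos.ne').2
          (card_dvd_of_le hKD) p) ((hp.out.pow_dvd_iff_le_factorization Nat.card_pos.ne').1 ?_)
        refine hA.trans (dvd_trans ?_ (card_dvd_of_le hC₂K))
        rw [Nat.card_congr (subgroupOfEquivOfLe hC₂H₁).toEquiv]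
      -- a Sylow subgroup of `K`, containing the central elements `x` and `z`
      have hxK : ι₁ x ∈ K := mem_centralizer_singleton_iff.2 rfl
      have hzK : z₁ ∈ K := mem_centralizer_singleton_iff.2 (mem_center_iff.1 hz₁ _).symm
      set U₁ := U.subgroupOf H₁ with hU₁
      have hUH₁ : U ≤ H₁ := by rintro _ ⟨q, -, rfl⟩; exact hmem q
      have hU₁card : Nat.card U₁ = p ^ 2 := by
        rw [hU₁, Nat.card_congr (subgroupOfEquivOfLe hUH₁).toEquiv, hUcard]
      have hU₁K : U₁ ≤ K := fun u hu => mem_centralizer_singleton_iff.2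
        (Subtype.ext (hUcomm _ (mem_subgroupOf.1 hu) _ hxU))
      obtain ⟨S, hS⟩ := (IsPGroup.of_card hU₁card).of_equiv
        (subgroupOfEquivOfLe hU₁K).symm |>.exists_le_sylow
      have hScard : Nat.card S = p ^ 3 := by rw [S.card_eq_multiplicity, hvK]
      have hxS : (⟨ι₁ x, hxK⟩ : K) ∈ (S : Subgroup K) := hS (mem_subgroupOf.2 hxU)
      have hzS : (⟨z₁, hzK⟩ : K) ∈ (S : Subgroup K) := hS (mem_subgroupOf.2 hzU)
      have hcen : (U₁.subgroupOf K).subgroupOf (S : Subgroup K) ≤ center (S : Subgroup K) := by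
        intro u hu
        obtain ⟨q, hq, hqe⟩ := mem_map.1 (mem_subgroupOf.1 (mem_subgroupOf.1 (mem_subgroupOf.1 hu)))
        have hsup : centralizer ({x} : Set Q) ≤ zpowers x ⊔ center Q := by
          refine (eq_of_le_of_card_ge (sup_le (zpowers_le.2 (mem_centralizer_singleton_iff.2 rfl))
            hx.center_le_cent) ?_).ge
          rw [hx.cent]
          refine sq_le_card_sup hQ.card (by omega) fun hxz => ?_
          exact hx.x_not_mem (hZ2 hxz)
        refine mem_center_iff.2 fun s => Subtype.ext (Subtype.ext (Subtype.ext ?_))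
        show (s : K).1.1 * (u : K).1.1 = (u : K).1.1 * (s : K).1.1
        rw [← hqe]
        have hle : zpowers x ⊔ center Q ≤ (centralizer ({(s : K).1.1} : Set H)).comap ι := by
          refine sup_le (zpowers_le.2 (mem_comap.2 (mem_centralizer_singleton_iff.2 ?_))) ?_
          · exact (congrArg Subtype.val (mem_centralizer_singleton_iff.1 (s : K).2)).symm
          · rw [hzgen, zpowers_le]
            exact mem_comap.2 (mem_centralizer_singleton_iff.2
              (mem_centralizer_singleton_iff.1 (s : K).1.2).symm)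
        exact (mem_centralizer_singleton_iff.1 (hle (hsup hq))).symm
      have hScomm : ∀ a b : (S : Subgroup K), a * b = b * a := by
        set Z := center (S : Subgroup K)
        have h1 : p ^ 2 ∣ Nat.card Z := by
          refine dvd_trans ?_ (card_dvd_of_le hcen)
          rw [Nat.card_congr (subgroupOfEquivOfLe hS).toEquiv,
            Nat.card_congr (subgroupOfEquivOfLe hU₁K).toEquiv, hU₁card]
        have h2 : Z.index ∣ p := by
          obtain ⟨c, hc⟩ := h1
          have h3 := Z.card_mul_index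
          rw [hScard, hc, mul_assoc, show p ^ 3 = p ^ 2 * p by ring] at h3
          exact Dvd.intro_left c (Nat.eq_of_mul_eq_mul_left (pow_pos hp.out.pos 2) h3)
        haveI : IsCyclic ((S : Subgroup K) ⧸ Z) := by
          rcases (Nat.dvd_prime hp.out).1 h2 with e | e <;> rw [index_eq_card] at e
          · haveI := (Nat.card_eq_one_iff_unique.1 e).1
            infer_instance
          · exact isCyclic_of_prime_card e
        exact (MonoidHom.isMulCommutative_of_isCyclic_of_ker_le_center (QuotientGroup.mk' Z)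
          (by rw [QuotientGroup.ker_mk'])).is_comm.comm
      -- conjugate it onto the preimage of the centralizer of `xb`
      set X := (centralizer ({xb} : Set (Q ⧸ F))).comap (QuotientGroup.mk' F) with hX
      have hXcard : Nat.card X = p ^ 3 := by
        rw [hX, FG78.card_comap_mk', hx'.cent, hFz, ← hzgen, hZcard]; ring
      have hXD : X.map ι₁ ≤ D := by
        rintro _ ⟨q, hq, rfl⟩
        refine mem_comap.2 (mem_centralizer_singleton_iff.2 ?_)
        show ι₂ (QuotientGroup.mk' F q) * ι₂ xb = ι₂ xb * ι₂ (QuotientGroup.mk' F q)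
        rw [← MonoidHom.map_mul ι₂, ← MonoidHom.map_mul ι₂]
        exact congrArg ι₂ (mem_centralizer_singleton_iff.1 (mem_comap.1 hq))
      set S₁ := (S : Subgroup K).map K.subtype
      have hS₁D : S₁ ≤ D := (map_subtype_le _).trans hKD
      obtain ⟨g, -, hg2⟩ := exists_conj_of_card (A := S₁.subgroupOf D) (B := (X.map ι₁).subgroupOf D)
        (by rw [Nat.card_congr (subgroupOfEquivOfLe hS₁D).toEquiv,
              card_map_of_injective K.subtype_injective, hScard, hvD])
        (by rw [Nat.card_congr (subgroupOfEquivOfLe hXD).toEquiv, card_map_of_injective hι₁,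
              hXcard, hvD])
      have hXle : X ≤ centralizer ({x} : Set Q) := by
        intro q hq
        have hxX : x ∈ X := mem_comap.2 (mem_centralizer_singleton_iff.2 rfl)
        obtain ⟨a, ha, hae⟩ := hg2 ⟨ι₁ q, hXD (mem_map_of_mem ι₁ hq)⟩
          (mem_subgroupOf.2 (mem_map_of_mem ι₁ hq))
        obtain ⟨b, hb, hbe⟩ := hg2 ⟨ι₁ x, hXD (mem_map_of_mem ι₁ hxX)⟩
          (mem_subgroupOf.2 (mem_map_of_mem ι₁ hxX))
        obtain ⟨a', ha', hae'⟩ := mem_subgroupOf.1 ha
        obtain ⟨b', hb', hbe'⟩ := mem_subgroupOf.1 hb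
        have hab : a * b = b * a := by
          apply Subtype.ext
          rw [Subgroup.coe_mul, Subgroup.coe_mul, ← hae', ← hbe', ← map_mul, ← map_mul]
          exact congrArg _ (congrArg Subtype.val (hScomm ⟨a', ha'⟩ ⟨b', hb'⟩))
        have hgab : (g * a * g⁻¹) * (g * b * g⁻¹) = (g * b * g⁻¹) * (g * a * g⁻¹) := by
          simp only [conj_mul]; rw [hab]
        rw [hae, hbe] at hgab
        refine mem_centralizer_singleton_iff.2 (hι₁ ?_)
        rw [map_mul, map_mul]
        exact congrArg Subtype.val hgab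
      have h1 := Subgroup.card_le_of_le hXle
      rw [hXcard, hx.cent] at h1
      have := (Nat.pow_le_pow_iff_right hp.out.one_lt).1 h1
      omega
  · -- an element normalising but not centralising `U`
    have hUlt : U.subgroupOf T < ⊤ := by
      refine lt_top_iff_ne_top.2 fun h => ?_
      have h1 := Subgroup.card_le_of_le (subgroupOf_eq_top.1 h)
      rw [hTcard, hUcard] at h1
      have := (Nat.pow_le_pow_iff_right hp.out.one_lt).1 h1
      omega
    haveI := hTp.isNilpotent
    obtain ⟨⟨t, htT⟩, htN, htU⟩ :=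
      SetLike.exists_of_lt (Group.normalizerCondition_of_isNilpotent (U.subgroupOf T) hUlt)
    rw [mem_subgroupOf] at htU
    have ht2 : t ∉ C₂ := by
      intro ht
      refine hA ?_
      obtain ⟨m, hm⟩ := PGroup.exists_card_eq_pow hTp ((C₂ ⊓ T).subgroupOf T)
      rw [Nat.card_congr (subgroupOfEquivOfLe (inf_le_right : C₂ ⊓ T ≤ T)).toEquiv] at hm
      have hUW : U ≤ C₂ ⊓ T := le_inf (fun u hu => mem_centralizer_iff.2 fun w hw =>
        hUcomm w hw u hu) hUT
      have h1 : Nat.card U < Nat.card (C₂ ⊓ T : Subgroup H) :=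
        lt_of_le_of_ne (Subgroup.card_le_of_le hUW) fun he => htU
          (eq_of_le_of_card_ge hUW he.ge ▸ mem_inf.2 ⟨ht, htT⟩)
      rw [hUcard, hm] at h1
      refine dvd_trans ?_ (card_dvd_of_le (inf_le_left : C₂ ⊓ T ≤ C₂))
      rw [hm]
      exact pow_dvd_pow p ((Nat.pow_lt_pow_iff_right hp.out.one_lt).1 h1)
    have htx : Commute t (ι x) := mem_centralizer_singleton_iff.1 (hTC htT)
    have htconj : ∀ u ∈ U, t * u * t⁻¹ ∈ U := fun u hu =>
      mem_subgroupOf.1 ((mem_normalizer_iff.1 htN ⟨u, hUT hu⟩).1 (mem_subgroupOf.2 hu))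
    set z' := t * ι z * t⁻¹ with hz'
    have hz'U : z' ∈ U := htconj _ hzU
    have hzc' : ∀ j : ℤ, z' ^ j = t * ι z ^ j * t⁻¹ := fun j => conj_zpow
    have hord : orderOf (ι z) = p := by
      rw [orderOf_injective ι hι, ← Nat.card_zpowers, ← hzgen, hZcard]
    have hz'Z : z' ∉ zpowers (ι z) := by
      intro hmem
      obtain ⟨j, hj⟩ := mem_zpowers_iff.1 hmem
      obtain ⟨k, hk⟩ := hTp ⟨t, htT⟩
      have hk' : t ^ p ^ k = 1 := congrArg Subtype.val hk
      have hpow : ∀ i : ℕ, t ^ i * ι z * (t ^ i)⁻¹ = ι z ^ (j ^ i) := by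
        intro i
        induction i with
        | zero => simp
        | succ i ih =>
          rw [pow_succ' t i, show t * t ^ i * ι z * (t * t ^ i)⁻¹ = t * (t ^ i * ι z * (t ^ i)⁻¹) * t⁻¹
            by group, ih, ← conj_zpow, ← hz', ← hj, ← zpow_mul, pow_succ' j i]
      have h1 := hpow (p ^ k)
      rw [hk', one_mul, inv_one, mul_one] at h1
      have h2 : ι z ^ (1 : ℤ) = ι z ^ j ^ p ^ k := by rw [zpow_one]; exact h1
      rw [zpow_eq_zpow_iff_modEq, hord, ← ZMod.intCast_eq_intCast_iff, Int.cast_pow,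
        ZMod.pow_card_pow, Int.cast_one] at h2
      have htz : t * ι z * t⁻¹ = ι z := by
        rw [← hz', ← hj]
        nth_rewrite 2 [← zpow_one (ι z)]
        rw [zpow_eq_zpow_iff_modEq, hord, ← ZMod.intCast_eq_intCast_iff, ← h2, Int.cast_one]
      have hsup : centralizer ({x} : Set Q) ≤ zpowers x ⊔ center Q := by
        refine (eq_of_le_of_card_ge (sup_le (zpowers_le.2 (mem_centralizer_singleton_iff.2 rfl))
          hx.center_le_cent) ?_).ge
        rw [hx.cent]
        exact sq_le_card_sup hQ.card (by omega) fun hxz => hx.x_not_mem (hZ2 hxz)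
      refine ht2 (mem_centralizer_iff.2 ?_)
      rintro _ ⟨q, hq, rfl⟩
      have hle : zpowers x ⊔ center Q ≤ (centralizer ({t} : Set H)).comap ι := by
        refine sup_le (zpowers_le.2 (mem_comap.2 (mem_centralizer_singleton_iff.2
          (mem_centralizer_singleton_iff.1 (hTC htT)).symm))) ?_
        rw [hzgen, zpowers_le]
        exact mem_comap.2 (mem_centralizer_singleton_iff.2 (mul_inv_eq_iff_eq_mul.1 htz).symm)
      exact mem_centralizer_singleton_iff.1 (hle (hsup hq))
    have hgen : U ≤ zpowers z' ⊔ zpowers (ι z) := by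
      refine (eq_of_le_of_card_ge (sup_le (zpowers_le.2 hz'U) (zpowers_le.2 hzU)) ?_).ge
      obtain ⟨m, hm⟩ := PGroup.exists_card_eq_pow (IsPGroup.of_card hUcard)
        ((zpowers z' ⊔ zpowers (ι z)).subgroupOf U)
      rw [Nat.card_congr (subgroupOfEquivOfLe
        (sup_le (zpowers_le.2 hz'U) (zpowers_le.2 hzU))).toEquiv] at hm
      have h1 : Nat.card (zpowers (ι z)) < Nat.card (zpowers z' ⊔ zpowers (ι z) : Subgroup H) := by
        refine lt_of_le_of_ne (Subgroup.card_le_of_le le_sup_right) fun he => hz'Z ?_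
        exact (eq_of_le_of_card_ge le_sup_right he.ge) ▸ mem_sup_left (mem_zpowers z')
      rw [Nat.card_zpowers, hord, hm] at h1
      have h2 := (Nat.pow_lt_pow_iff_right hp.out.one_lt).1 (by rwa [pow_one] : p ^ 1 < p ^ m)
      rw [hm, hUcard]
      exact Nat.pow_le_pow_right hp.out.pos h2
    have hle : zpowers z' ≤ normalizer (zpowers (ι z) : Subgroup H) :=
      (zpowers_le.2 (mem_centralizer_iff.2 fun w hw => ?_)).trans (centralizer_le_normalizer _)
    swap
    · exact hUcomm _ ((zpowers_le.2 hzU) hw) _ hz'U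
    have hmem := hgen hxU
    rw [← SetLike.mem_coe, coe_mul_of_left_le_normalizer_right _ _ hle] at hmem
    obtain ⟨_, ⟨a, rfl⟩, _, ⟨b, rfl⟩, hab⟩ := Set.mem_mul.1 hmem
    obtain ⟨g, hg⟩ := hx.exists_conj (a := z ^ (-b)) (zpow_mem (hZ2 hzc) _)
    have hg' : z' ^ a = ι g * ι x * (ι g)⁻¹ := by
      rw [← map_inv, ← map_mul, ← map_mul, ← hg, map_mul, map_zpow, ← hab, zpow_neg]
      have hcz : Commute (z' ^ a) (ι z ^ b) :=
        Commute.zpow_zpow (hUcomm _ hz'U _ hzU) a b
      rw [hcz.eq, inv_mul_cancel_left]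
    refine Or.inr ⟨t⁻¹ * ι g, z ^ a, zpow_mem (hZ2 hzc) a, ?_⟩
    calc t⁻¹ * ι g * ι x * (t⁻¹ * ι g)⁻¹ = t⁻¹ * (ι g * ι x * (ι g)⁻¹) * t := by group
      _ = ι (z ^ a) := by rw [← hg', hzc', map_zpow]; group

/-- An element with centralizer of order `p ^ 2` outside a given proper subgroup containing `P'`. -/
theorem exists_cfg_not_mem {Q : Type u} [Group Q] [Finite Q] {n : ℕ} (hQ : MaxCl p n Q)
    {M : Subgroup Q} (hM : M ≠ ⊤) (hD : FG38.filt Q 2 ≤ M) : ∃ x, x ∉ M ∧ Cfg p n x := by
  classical
  have h3 := hQ.three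
  have hp2 := hp.out.two_le
  let C : ℕ → Subgroup Q := fun i => if i = 1 then M else twoStep Q (i - 1)
  obtain ⟨x, hx⟩ := exists_not_mem hQ.isPGroup (Finset.Icc 1 (min p (n - 2)))
    (by rw [Nat.card_Icc]; omega) C (fun i hi => by
      have := Finset.mem_Icc.1 hi
      by_cases h1 : i = 1
      · simpa [C, h1] using hM
      · simpa [C, h1] using hQ.twoStep_ne (i := i) (by omega) (by omega))
  have hxM : x ∉ M := by simpa [C] using hx 1 (Finset.mem_Icc.2 ⟨le_rfl, by omega⟩)
  refine ⟨x, hxM, hQ.cfg_of_outside_first (fun h => hxM (hD h)) fun i hi hip hin => ?_⟩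
  simpa [C, show i ≠ 1 by omega] using hx i (Finset.mem_Icc.2 ⟨by omega, by omega⟩)

theorem filt_two_le_of_normal {Q : Type u} [Group Q] [Finite Q] {n : ℕ} (hQ : MaxCl p n Q)
    (N : Subgroup Q) [N.Normal] (hN : ¬ N ≤ FG38.filt Q 2) : FG38.filt Q 2 ≤ N := by
  have h3 := hQ.three
  set D := FG38.filt Q 2 with hDdef
  have hidx : (N ⊔ D).index ≤ p := by
    have hDidx : D.index = p ^ 2 := by
      have h1 := D.card_mul_index
      rw [hQ.layer 2 le_rfl (by omega), hQ.card] at h1
      exact Nat.eq_of_mul_eq_mul_left (pow_pos hp.out.pos (n - 2))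
        (by rw [h1, ← pow_add, Nat.sub_add_cancel (by omega : 2 ≤ n)])
    obtain ⟨i, hi, hie⟩ := (Nat.dvd_prime_pow hp.out).1
      (hDidx ▸ Subgroup.index_dvd_of_le (le_sup_right : D ≤ N ⊔ D))
    rcases eq_or_lt_of_le hi with rfl | hi'
    · refine absurd ?_ hN
      have h1 := (N ⊔ D).card_mul_index
      rw [hie, ← hDidx, ← D.card_mul_index] at h1
      have h2 : D = N ⊔ D := eq_of_le_of_card_ge le_sup_right
        (Nat.eq_of_mul_eq_mul_right (hDidx ▸ pow_pos hp.out.pos 2) h1).le
      exact h2 ▸ le_sup_left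
    · rw [hie]
      calc p ^ i ≤ p ^ 1 := Nat.pow_le_pow_right hp.out.pos (by omega)
        _ = p := pow_one p
  set f := QuotientGroup.mk' N
  have hmap : D.map f = _root_.commutator (Q ⧸ N) := by
    rw [hDdef, filt_two, _root_.commutator_def, _root_.commutator_def, map_commutator,
      map_top_of_surjective _ (QuotientGroup.mk'_surjective N)]
  have h1 := BC84.PSquare.eq_bot_of_commutator_index_le (hQ.isPGroup.to_quotient N) (by
    rw [← hmap, index_map, QuotientGroup.ker_mk',
      MonoidHom.range_eq_top.2 (QuotientGroup.mk'_surjective N), index_top, mul_one, sup_comm]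
    exact hidx)
  rw [← hmap, Subgroup.map_eq_bot_iff, QuotientGroup.ker_mk'] at h1
  exact h1

/-- A normal subgroup of order at least `p ^ 2` contains the last but one layer. -/
theorem filt_le_of_normal {Q : Type u} [Group Q] [Finite Q] {n : ℕ} (hQ : MaxCl p n Q) {x : Q}
    (hx : Cfg p n x) (hn : 4 ≤ n) (N : Subgroup Q) [N.Normal] (hND : N ≤ FG38.filt Q 2)
    (hN : p < Nat.card N) : FG38.filt Q (n - 2) ≤ N := by
  classical
  obtain ⟨i, hi2, hin, hNi, hNi'⟩ : ∃ i, 2 ≤ i ∧ i + 2 ≤ n ∧ N ≤ FG38.filt Q i ∧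
      ¬ N ≤ FG38.filt Q (i + 1) := by
    have hlast : ¬ N ≤ FG38.filt Q (n - 2 + 1) := fun h => by
      have h1 := Subgroup.card_le_of_le h
      rw [hQ.layer _ (by omega) (by omega), show n - (n - 2 + 1) = 1 by omega, pow_one] at h1
      omega
    let P := fun i => 2 ≤ i ∧ ¬ N ≤ FG38.filt Q (i + 1)
    have hex : ∃ i, P i := ⟨n - 2, by omega, hlast⟩
    obtain ⟨h1, h2⟩ := Nat.find_spec hex
    refine ⟨Nat.find hex, h1, ?_, ?_, h2⟩
    · have := Nat.find_min' hex (show P (n - 2) from ⟨by omega, hlast⟩)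
      omega
    · rcases eq_or_lt_of_le h1 with e | e
      · rwa [← e]
      · have h3 : ¬ P (Nat.find hex - 1) := Nat.find_min hex (by omega)
        simp only [P, not_and, not_not] at h3
        have := h3 (by omega)
        rwa [show Nat.find hex - 1 + 1 = Nat.find hex by omega] at this
  obtain ⟨b, hbN, hb'⟩ := SetLike.not_le_iff_exists.1 hNi'
  have hit : ∀ j, (dl x)^[j] b ∈ N := by
    intro j
    induction j with
    | zero => exact hbN
    | succ j ih =>
      rw [Function.iterate_succ_apply']
      exact mul_mem (inv_mem ih) (Subgroup.Normal.conj_mem inferInstance _ ih x)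
  have hlay : ∀ j, i + j + 1 ≤ n →
      FG38.filt Q (i + j) ≤ zpowers ((dl x)^[j] b) ⊔ FG38.filt Q (i + j + 1) := fun j hj =>
    hQ.layer_gen (by omega) hj (dl_iter_mem x (hNi hbN) j)
      (hx.dl_iter_not_mem hi2 (hNi hbN) hb' j hj)
  have hlayN : ∀ j, i + j + 1 ≤ n → FG38.filt Q (i + j + 1) ≤ N → FG38.filt Q (i + j) ≤ N :=
    fun j hj h => (hlay j hj).trans (sup_le (zpowers_le.2 (hit j)) h)
  have h1 : FG38.filt Q (n - 1) ≤ N := by
    have := hlayN (n - 1 - i) (by omega)
    rw [show i + (n - 1 - i) + 1 = n by omega, hQ.filt_n, show i + (n - 1 - i) = n - 1 by omega] at this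
    exact this bot_le
  have := hlayN (n - 2 - i) (by omega)
  rw [show i + (n - 2 - i) + 1 = n - 1 by omega, show i + (n - 2 - i) = n - 2 by omega] at this
  exact this h1

/-- The dichotomy for a Sylow subgroup of maximal class. -/
theorem quasisimple_of_no_psquare {G : Type u} [Group G] [Finite G] (P : Sylow p G) {n : ℕ}
    (hn : 3 ≤ n) (hP : Nat.card P = p ^ n) (hmax : Group.nilpotencyClass P = n - 1)
    (hcore : Cfsg.pPrimeCore p G = ⊥)
    (hres : ∀ N : Subgroup G, N.Normal → (N.index).Coprime p → N = ⊤)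
    (hno : ∀ x ∈ (P : Subgroup G), (Nat.card (centralizer ({x} : Set G))).factorization p ≠ 2) :
    Cfsg.IsQuasisimple G ∧ Nat.card (center G) ≤ p := by
  have hp2 := hp.out.two_le
  have hQ : MaxCl p n P := maxCl_of_class hn hP hmax
  have hv : (Nat.card G).factorization p = n :=
    Nat.pow_right_injective hp2 (P.card_eq_multiplicity.symm.trans hP)
  set D := FG38.filt P 2 with hDdef
  set ι := (P : Subgroup G).subtype with hι
  -- every small element is conjugate into `D`
  have hconj : ∀ x : P, Cfg p n x → ∃ h : G, ∃ d ∈ D, h * x * h⁻¹ = (d : G) := fun x hx =>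
    (key n ι (P : Subgroup G).subtype_injective hv hQ x hx).resolve_left (hno x x.2)
  have hnotle : D ≠ ⊤ := fun h => by
    have h1 := hQ.layer 2 le_rfl (by omega)
    rw [← hDdef, h, card_top, hQ.card] at h1
    have := Nat.pow_right_injective hp2 h1
    omega
  obtain ⟨x₀, -, hx₀⟩ := exists_cfg_not_mem hQ hnotle le_rfl
  -- normal subgroups containing `D`
  have hbig : ∀ W : Subgroup G, W.Normal → D ≤ W.comap ι → W = ⊤ := by
    intro W hW hDW
    refine hres W hW ?_
    have hPW : (P : Subgroup G) ≤ W := by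
      by_contra hle
      have hM : W.comap ι ≠ ⊤ := fun h => hle fun g hg =>
        (mem_comap.1 (h ▸ mem_top (⟨g, hg⟩ : P)) :)
      obtain ⟨x, hxM, hx⟩ := exists_cfg_not_mem hQ hM hDW
      obtain ⟨h, d, hd, he⟩ := hconj x hx
      refine hxM (mem_comap.2 ?_)
      have h1 : (d : G) ∈ W := hDW hd
      rw [← he] at h1
      have h2 := hW.conj_mem _ h1 h⁻¹
      simpa [mul_assoc, hι] using h2
    exact (Nat.Coprime.symm ((hp.out.coprime_iff_not_dvd).2 fun h =>
      P.not_dvd_index (h.trans (index_dvd_of_le hPW))))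
  have hperf : _root_.commutator G = ⊤ := by
    refine hbig _ inferInstance fun d hd => mem_comap.2 ?_
    rw [hDdef, filt_two] at hd
    have h1 := mem_map_of_mem ι hd
    rw [_root_.commutator_def, map_commutator] at h1
    exact commutator_mono le_top le_top h1
  -- proper normal subgroups are small `p`-groups
  have hsmall : ∀ W : Subgroup G, W.Normal → W ≠ ⊤ → W ≤ center G ∧ Nat.card W ≤ p := by
    intro W hW hWtop
    haveI := hW
    haveI : (W.comap ι).Normal := hW.comap ι
    have hWD : W.comap ι ≤ D := by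
      by_contra h
      exact hWtop (hbig W hW (filt_two_le_of_normal hQ _ h))
    have hWp : IsPGroup p W := by
      obtain ⟨S, K, hKn, hKc⟩ := Cfsg.Agent.Transfer.hasNormalPComplement_of_inf_le_frattini P W
        fun w hw => ⟨⟨w, hw.2⟩, PGroup.commutator_le_frattini hQ.isPGroup
          (filt_two (G := P) ▸ hWD (mem_comap.2 hw.1)), rfl⟩
      have hKcop : (Nat.card K).Coprime p := by
        rw [← hKc.index_eq_card]
        exact ((hp.out.coprime_iff_not_dvd).2 S.not_dvd_index).symm
      have hK : K = ⊥ := by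
        have hchar : K.Characteristic := by
          refine characteristic_iff_map_le.2 fun φ => ?_
          intro k hk
          obtain ⟨k, hk', rfl⟩ := hk
          rw [← QuotientGroup.eq_one_iff]
          have h1 : orderOf ((φ k : W) : W ⧸ K) ∣ Nat.card K := by
            refine (orderOf_map_dvd (QuotientGroup.mk' K) _).trans ?_
            show orderOf (φ k) ∣ _
            rw [MulEquiv.orderOf_eq]
            exact Subgroup.orderOf_dvd_natCard _ hk'
          have h2 : orderOf ((φ k : W) : W ⧸ K) ∣ Nat.card S := by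
            rw [← hKc.symm.index_eq_card, index_eq_card]
            exact orderOf_dvd_natCard _
          have h3 := Nat.dvd_gcd h1 h2
          obtain ⟨e, he⟩ := PGroup.exists_card_eq_pow S.isPGroup' (⊤ : Subgroup S)
          rw [card_top] at he
          rw [he, (hKcop.pow_right e : (Nat.card K).Coprime (p ^ e)), Nat.dvd_one,
            orderOf_eq_one_iff] at h3
          exact h3
        haveI : (K.map W.subtype).Normal := inferInstance
        have h1 : K.map W.subtype ≤ Cfsg.pPrimeCore p G :=
          le_sSup ⟨inferInstance, by rwa [card_map_of_injective W.subtype_injective]⟩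
        rw [hcore, le_bot_iff, map_eq_bot_iff_of_injective _ W.subtype_injective] at h1
        exact h1
      subst hK
      obtain ⟨e, he⟩ := PGroup.exists_card_eq_pow S.isPGroup' (⊤ : Subgroup S)
      rw [card_top] at he
      refine IsPGroup.of_card (n := e) ?_
      rw [← he, ← hKc.card_mul_card, card_bot, one_mul]
    have hWP : W ≤ P := hWp.le_sylow_of_normal P
    have hcardW : Nat.card (W.comap ι) = Nat.card W :=
      Nat.card_congr (subgroupOfEquivOfLe hWP).toEquiv
    have hWcard : Nat.card W ≤ p := by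
      by_contra! hlt
      rw [← hcardW] at hlt
      have hle := Subgroup.card_le_of_le hWD
      rw [hQ.layer 2 le_rfl (by omega)] at hle
      rcases eq_or_lt_of_le hn with rfl | hn4
      · rw [show (3 : ℕ) - 2 = 1 from rfl, pow_one] at hle
        omega
      have hF := filt_le_of_normal hQ hx₀ hn4 _ hWD hlt
      obtain ⟨h, d, hd, he⟩ := hconj x₀ hx₀
      have hcom : ∀ v ∈ FG38.filt P (n - 2), v * d = d * v := by
        intro v hv
        rw [← commutatorElement_eq_one_iff_mul_comm]
        have h1 : ⁅v, d⁆ ∈ FG38.filt P (n - 2 + 2) :=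
          FG38.filt_commutator (n - 2) 2 (commutator_mem_commutator hv hd)
        rwa [show n - 2 + 2 = n by omega, hQ.filt_n, mem_bot] at h1
      set E := (centralizer ({x₀} : Set P) ⊓ D) with hE
      have hEcard : Nat.card E ≤ p := by
        obtain ⟨m, hm⟩ := PGroup.exists_card_eq_pow hQ.isPGroup E
        have h1 : Nat.card E < p ^ 2 := by
          rw [← hx₀.cent]
          refine lt_of_le_of_ne (Subgroup.card_le_of_le inf_le_left) fun e => hx₀.x_not_mem ?_
          have hE' := eq_of_le_of_card_ge inf_le_left e.ge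
          have hx : x₀ ∈ E := by rw [hE, hE']; exact mem_centralizer_singleton_iff.2 rfl
          exact hx.2
        rw [hm] at h1 ⊢
        calc p ^ m ≤ p ^ 1 := Nat.pow_le_pow_right hp.out.pos (by
              have := (Nat.pow_lt_pow_iff_right hp.out.one_lt).1 h1; omega)
          _ = p := pow_one p
      have hmem : ∀ v : FG38.filt P (n - 2), ∃ u : E, ((u : P) : G) = h⁻¹ * ((v : P) : G) * h := by
        intro v
        have hvW : ((v : P) : G) ∈ W := mem_comap.1 (hF v.2)
        have huW : h⁻¹ * ((v : P) : G) * h ∈ W := by simpa using hW.conj_mem _ hvW h⁻¹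
        have hc : ((v : P) : G) * d = d * (v : P) := congrArg Subtype.val (hcom _ v.2)
        rw [← he] at hc
        refine ⟨⟨⟨_, hWP huW⟩, mem_inf.2 ⟨mem_centralizer_singleton_iff.2 (Subtype.ext ?_),
          hWD (mem_comap.2 huW)⟩⟩, rfl⟩
        calc h⁻¹ * ((v : P) : G) * h * (x₀ : G) = h⁻¹ * (((v : P) : G) * (h * x₀ * h⁻¹)) * h := by
              group
          _ = h⁻¹ * (h * x₀ * h⁻¹ * (v : P)) * h := by rw [hc]
          _ = (x₀ : G) * (h⁻¹ * ((v : P) : G) * h) := by group
      choose φ hφ using hmem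
      have hinj : Function.Injective φ := fun a b e => by
        have h1 := (hφ a).symm.trans ((congrArg (fun u : E => ((u : P) : G)) e).trans (hφ b))
        simp only [mul_left_inj, mul_right_inj] at h1
        exact Subtype.ext (Subtype.ext h1)
      have h1 := (Nat.card_le_card_of_injective φ hinj).trans hEcard
      rw [hQ.layer (n - 2) (by omega) (by omega), show n - (n - 2) = 2 by omega] at h1
      nlinarith
    refine ⟨?_, hWcard⟩
    haveI : IsCyclic W := by
      obtain ⟨m, hm⟩ := hWp.exists_card_eq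
      rw [hm] at hWcard
      have : m ≤ 1 := (Nat.pow_le_pow_iff_right hp.out.one_lt).1 (by simpa using hWcard)
      interval_cases m
      · haveI : Subsingleton W := (Nat.card_eq_one_iff_unique.1 (by simpa using hm)).1
        infer_instance
      · exact isCyclic_of_prime_card (by simpa using hm)
    intro w hw
    refine mem_center_iff.2 fun g => ?_
    have hker : _root_.commutator G ≤ (MulAut.conjNormal : G →* MulAut W).ker := by
      rw [_root_.commutator_def, commutator_le]
      intro a _ b _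
      rw [MonoidHom.mem_ker, map_commutatorElement, commutatorElement_eq_one_iff_mul_comm]
      refine (IsCyclic.mulAutMulEquiv W).injective ?_
      rw [map_mul, map_mul, mul_comm]
    have h1 : MulAut.conjNormal g = (1 : MulAut W) := hker (hperf ▸ mem_top g)
    have h2 := congrArg Subtype.val (DFunLike.congr_fun h1 ⟨w, hw⟩)
    rw [MulAut.conjNormal_apply] at h2
    exact mul_inv_eq_iff_eq_mul.1 h2
  have hnab : center G ≠ ⊤ := by
    intro h
    have h1 : D = ⊥ := by
      rw [hDdef, filt_two, commutator_eq_bot_iff_center_eq_top, eq_top_iff]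
      exact fun a _ => mem_center_iff.2 fun b => Subtype.ext
        (mem_center_iff.1 (show (a : G) ∈ center G by rw [h]; exact mem_top _) b)
    have h2 := hQ.layer 2 le_rfl (by omega)
    rw [← hDdef, h1, card_bot] at h2
    exact absurd h2 (Nat.one_lt_pow (by omega) hp.out.one_lt).ne
  refine ⟨⟨⟨hperf⟩, ?_⟩, (hsmall _ inferInstance hnab).2⟩
  haveI : Nontrivial (G ⧸ center G) := QuotientGroup.nontrivial_iff.2 hnab
  refine ⟨fun N hN => ?_⟩
  haveI := hN
  by_cases h : N.comap (QuotientGroup.mk' (center G)) = ⊤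
  · right
    exact comap_injective (QuotientGroup.mk'_surjective _) (h.trans (comap_top _).symm)
  · left
    refine comap_injective (QuotientGroup.mk'_surjective _) ?_
    rw [MonoidHom.comap_bot, QuotientGroup.ker_mk']
    refine le_antisymm (hsmall _ inferInstance h).1 ?_
    intro c hc
    rw [mem_comap, QuotientGroup.mk'_apply, (QuotientGroup.eq_one_iff c).2 hc]
    exact one_mem _

end Cfsg.Agent.MaxClassSylow64
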